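import Cfsg.Agent.Helper19.TCR.ModelDefs

set_option autoImplicit false
set_option linter.all false
set_option maxRecDepth 1000000
set_option maxHeartbeats 0

namespace Cfsg.Agent.Helper11.SchU43M2

open Cfsg.Agent.Helper19.TCS Cfsg.Agent.Helper19.TCM

noncomputable def colM0 : Tr Nat := (.nd (.nd (.lf (nat_lit 0x5f02902805c05b02704705602505204e02304d02204b04a04801f04401e04103f02103c01a03801803503303103001c02d02b01701201602601402401000e02000d01d01b01900900c01500701300601100f00b00500300a008001004002000)) (.lf (nat_lit 0x19b0dc19a0db0da11613c9400d819497f0d61361221929870cf0ce15a18d0cc18b0cb90c1880ca1851261821810c60e80c54d40ee0c40ef17c0c115b1791780be1769661151040bb17217116f0b716e50f12d0b50b316a0b690a169168167165)) (.lf (nat_lit 0x21a20d20c216a1361461920320220a21ba18a152011f31ee1ed1f420b1eb1fa2171e71e61e42081e2212)) (.lf (nat_lit 0x0))) (.nd (.lf (nat_lit 0xb40b20530ae0510ab0500a80a604f0a30760a004c07205e04909a09909804604509406b04309107b06c06204204008b08903e03d08608508303a03905505907e03703607c07a07803405407403207107002f06e06d02e03b06806602c06302a))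 (.lf (nat_lit 0x5951c611b14e1a311891f97a9ae91c11357d1111c194c10d1c05291091be1071bc1349451ba1001561b918a9421b55060fa0f81b31b15980f51af0f40f31ac1588fc0f11a89991a553e0ec56b51053b5571210e61a00e514a0e319c0e14fe533)) (.lf (nat_lit 0x0)) (.lf (nat_lit 0x0))) (.nd (.lf (nat_lit 0x11708411411208210e0ac08110b08007f0df0d01058ea07d1030b01020dd0d10790fd0fb0770c80f60750f20f00730ed0eb0e90e706f0e409c0b80e00de06a0690d90d70670d30650640cd0610600c90c708d05d0c30880c005a0bc0ba058057)) (.lf (nat_lit 0x16c1ec19f1771ea5de9701631801e51e31601e015c1df15918e1b495f5751d11541531a918c1501da59d1d41481d91c417b95e1445c316d9d21c213a1d31381371d613294d13018612e1d018f12b1ce1cd1279c51ca12553d1641235a15bb1c8)) (.lf (nat_lit 0x0)) (.lf (nat_lit 0x0))) (.nd (.lf (nat_lit 0xaa0a91621610ff1010a715d0a514613f0a40ad1550a21521510af14f09f0c209e14b09d14914709b0f71430b914112f0971081198a10950b113909313511d0920bf0d50e209013108f08e12c12a12808c12408a0f912011e0874bd11a0d2096)) (.lf (nat_lit 0x21160f1db1e99fe1ef2051cc2042101cb20e1e11c9a075f55c71fb1bf2095e89d51bd2061b81b61f81f65dc2001ff5d81b71ad5fd1aa1a69dd9f219e9a21961931fc1911901b01ab5971a71f91f71891cf1831b217e1f11f05d75a4174173584))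 (.lf (nat_lit 0x0)) (.lf (nat_lit 0x0))))

end Cfsg.Agent.Helper11.SchU43M2
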