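import Cfsg.Agent.Helper19.TCR.ModelDefs

set_option autoImplicit false
set_option linter.all false
set_option maxRecDepth 1000000
set_option maxHeartbeats 0

namespace Cfsg.Agent.Helper11.SchU43M2

open Cfsg.Agent.Helper19.TCS Cfsg.Agent.Helper19.TCM

noncomputable def colM1 : Tr Nat := (.nd (.nd (.lf (nat_lit 0x2a05e05d02804505905802605405302404f02304c02202104904601f04201e04003e03d03a01a03701803403202901502e02c01302001202701102501d01b00e01900c01c00a01700901601400f00800501000400d00b007002006001003000)) (.lf (nat_lit 0xf594f98513994b1980d91961951330d71699401930d01910e018f1090cd18c0cc96e0cb1891241860c91831321490c65790c50d657617d0c20dd17a0bf13a1120bd1750bc17394c90a0ba1705280b750416d0de16b9600b21110af0ad0fa166)) (.lf (nat_lit 0x21121ba1561020621860fa166172001ff1f69fe1f421a2192092121ec2025f11e81f91f721421320e1e2)) (.lf (nat_lit 0x0))) (.nd (.lf (nat_lit 0xb50550b00520650510aa0500a70740a404d0a107104b04a09c04804706406809609504409204309008f04106308d08c03f07008803c03b08405608108003805704e07d03607b07907603503307203103006f02f03906b06a02d06706202b061))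 (.lf (nat_lit 0x5351c797411a19f5781171161bc1149ac1c21c110f10e5b910d10b19b1bf94d1061031021015131001841b80fd0fc1b45ad59e0f81b211812d1b015594a1650f21aa1a90f00ef1a60ed17c5925710e91450e71a20e60f656819d0e35620e1538)) (.lf (nat_lit 0x0)) (.lf (nat_lit 0x0))) (.nd (.lf (nat_lit 0xd41158c30831100820e209910c10510807f10707e0da0ae0ee07c0f30b907a0ff0fe0780f90770f70f40750f14dc0730ec0ea0e809a0e506e06d06c0df0c00db0690d80d50660d10cf0ce0890ca0600c805f0860c405c05b0be05a0bb0b80b6)) (.lf (nat_lit 0x1ed16c1e916a9811671641e71df1e61611ae15d1c815c1d11595771de1561d01dc1a81521ce1db1509c317b5d79821471bd1d89a414313f13d55195b9cf1d697f1361d51311d31d218d1af12c1a712a1631cb1275301901259c01c91231221b7)) (.lf (nat_lit 0x0)) (.lf (nat_lit 0x0))) (.nd (.lf (nat_lit 0xfb9410a95540a815f0c715e0e40a515a1581570a31530a211b11d0a014e09f4b109e12009d14814609b1440d21420980b40970ac13e13c13b0941370931340d391e0910c10ab0b312f12e08e12b12912608b0a608a12111f11c0870eb119085)) (.lf (nat_lit 0x1e15fb9dd1d41ee2071cd1e51cc1e49f020a20d5d91c61c51fa20c20b1be2081bb1fc9eb2052041b62031b52011f31b31b19ba5da9e31fd1a51a19e09c41945ea1a319759a1ab18e1ca18b18a1f81f51871f21809ef17e5881a099c19917216f))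 (.lf (nat_lit 0x0)) (.lf (nat_lit 0x0))))

end Cfsg.Agent.Helper11.SchU43M2
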