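import Cfsg.Agent.Helper19.TCR.ModelDefs

set_option autoImplicit false
set_option linter.all false
set_option maxRecDepth 1000000
set_option maxHeartbeats 0

namespace Cfsg.Agent.Helper11.SchU43M2

open Cfsg.Agent.Helper19.TCS Cfsg.Agent.Helper19.TCM

noncomputable def colM2 : Tr Nat := (.nd (.nd (.lf (nat_lit 0x6002b03d03202705a02605705502405105004e03c03102502004704504303e01d01c01b03b03903003601701601502f01401302a02902801101901002302202101f01e00b01a01800f00800a00601200d00400e00300c002009007005000001)) (.lf (nat_lit 0xde1940db1991170d91970d81480d713512b0d30d10e70cf18b1900cd18e13498818118a0ca1870c91840c80c717a1800df17f0c417e0c30d517b0c013b0be1771730bc1740bb1100ba1430b814b54e0b60b516c0e50b21530b00f00ce0ab0aa)) (.lf (nat_lit 0xa12a17a1120b61a204203a09a1061b6196131f5a0c1ff60e2181ec6141f01ea2012052162151e32061ed)) (.lf (nat_lit 0x0))) (.nd (.lf (nat_lit 0x560b30b10af0ad0ac0520a904f0a504d0a204c09f09e07009d09b05e04609705304409308b05b04204105404008e03f08a06d04b08706603a08204a03807f03706306a07903503407703307507305d05804804902e06c02d06902c065064062))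 (.lf (nat_lit 0x11e11c1a89421191219411c51151c41c311211416d16b1671935b11721081711bd15a1bb1701521860ff0fe1b71b60fb0fd1a61b20f70f61690f41ae1ad0f21ab0f11051661a70ed1a490b0eb0ea10c0e81a31371a119f0e419e10e57c5790e0)) (.lf (nat_lit 0x0)) (.lf (nat_lit 0x0))) (.nd (.lf (nat_lit 0x8411608311311110f08110d08010a1090e907e10607d10407c0ec07b07a1011000780fc0fa0f80760f50f30740ef0ee07207106f0e606e0e30e20e106b0dd0dc0da0680d60d40d20d00610cc0cb06705f0c60c505c0c20c10bf0bd0590b90b7)) (.lf (nat_lit 0x1d01b016a1eb1681e91e81e51621611e41e21e115d96e1be5c21581571dd15559859c17d15115e1c714f1499ce1471a014614419d9a91961d713c9aa13919b19213e16f1951d412e1d112c1cf18512f1281cc52a12616518c1241c81c6129120)) (.lf (nat_lit 0x0)) (.lf (nat_lit 0x0))) (.nd (.lf (nat_lit 0x16416315f0a81600a70f90a615c15b0a41590a31561541030a10a01500ae14d14c0b414a13109c10714509a09909814011f13f09609513d09413a13813609211a09113309013208f13010212d08d08c12712512312208908811d11b086085118)) (.lf (nat_lit 0x20d1dc9de1d51d31d21e01cd1e61cb20f1ca1c91e71db2081c11c020020a1bc2071ba1b91f21f71b81b52021b41b31f91df5fd1ac1fe1f19d61d81d919a5da1fc1911fb1fa18f1bf18d5a21f81891f61f41f31831a51821781761759af1ef1ee))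 (.lf (nat_lit 0x0)) (.lf (nat_lit 0x0))))

end Cfsg.Agent.Helper11.SchU43M2
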