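import Cfsg.Agent.Helper19.TCR.ModelDefs
import Cfsg.Agent.Helper11.SchU43M2.MCol0
import Cfsg.Agent.Helper11.SchU43M2.MCol1
import Cfsg.Agent.Helper11.SchU43M2.MCol2
import Cfsg.Agent.Helper11.SchU43M2.MCol3

set_option autoImplicit false
set_option linter.all false
set_option maxRecDepth 1000000
set_option maxHeartbeats 0

namespace Cfsg.Agent.Helper11.SchU43M2

open Cfsg.Agent.Helper19.TCS Cfsg.Agent.Helper19.TCM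

noncomputable def colMF (l : Nat) : Tr Nat := Nat.rec (motive := fun _ => Tr Nat) colM0 (fun l _ => Nat.rec (motive := fun _ => Tr Nat) colM1 (fun l _ => Nat.rec (motive := fun _ => Tr Nat) colM2 (fun l _ => colM3) l) l) l
noncomputable def entM (i l : Nat) : Nat := Nat.mod (Nat.shiftRight (Tr.get (colMF l) (Nat.div i 64)) (Nat.mul 12 (Nat.mod i 64))) 4096
noncomputable def invMF (l : Nat) : Nat := Nat.rec (motive := fun _ => Nat) 1 (fun l _ => Nat.rec (motive := fun _ => Nat) 0 (fun l _ => Nat.rec (motive := fun _ => Nat) 3 (fun l _ => 2) l) l) l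
def relsM : List (List Nat) := [[2, 2], [0, 0, 0, 0, 0, 0, 0], [0, 2, 0, 2, 0, 2, 0, 2, 0, 2], [0, 2, 1, 2, 0, 2, 1, 2, 0, 2, 1, 2, 0, 2, 1, 2], [0, 0, 0, 2, 0, 0, 0, 2, 0, 0, 0, 2, 0, 2, 1, 2, 1, 1, 2, 1, 2, 0, 2], [0, 0, 0, 2, 1, 1, 2, 0, 0, 0, 2, 1, 1, 2, 0, 0, 0, 2, 1, 1, 2, 0, 0, 0, 2, 1, 1, 2], [0, 2, 1, 2, 0, 0, 2, 0, 2, 1, 2, 0, 0, 2, 0, 2, 1, 2, 0, 0, 2, 0, 2, 1, 2, 0, 0, 2, 0, 2, 1, 2, 0, 0, 2, 0, 2, 1, 2, 0, 0, 2, 0, 2, 1, 2, 0, 0, 2]]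
def phisM : List Nat := [0, 0, 0, 0, 0, 0, 1]
def relsPM : List (List Nat × Nat) := [([2, 2], 0), ([0, 0, 0, 0, 0, 0, 0], 0), ([0, 2, 0, 2, 0, 2, 0, 2, 0, 2], 0), ([0, 2, 1, 2, 0, 2, 1, 2, 0, 2, 1, 2, 0, 2, 1, 2], 0), ([0, 0, 0, 2, 0, 0, 0, 2, 0, 0, 0, 2, 0, 2, 1, 2, 1, 1, 2, 1, 2, 0, 2], 0), ([0, 0, 0, 2, 1, 1, 2, 0, 0, 0, 2, 1, 1, 2, 0, 0, 0, 2, 1, 1, 2, 0, 0, 0, 2, 1, 1, 2], 0), ([0, 2, 1, 2, 0, 0, 2, 0, 2, 1, 2, 0, 0, 2, 0, 2, 1, 2, 0, 0, 2, 0, 2, 1, 2, 0, 0, 2, 0, 2, 1, 2, 0, 0, 2, 0, 2, 1, 2, 0, 0, 2, 0, 2, 1, 2, 0, 0, 2], 1)]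

abbrev OKM (lo n : Nat) : Prop := okRowsM 540 4 1024 3 invMF entM relsPM lo n = true

end Cfsg.Agent.Helper11.SchU43M2
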